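import Groth.Agent.CohAff.CechH
import Groth.Agent.LocCoh.Punctured
import Groth.Agent.CohLin.Basic
import Groth.Prelude.Def_Formal

/-!
# Finiteness of the cohomology of coherent modules on opens of an affine scheme
-/

set_option autoImplicit false

universe u

open CategoryTheory Opposite AlgebraicGeometry TopologicalSpace
open Groth.Agent
open Groth.Agent.KoszulCech (C cdM HomAt tp)

noncomputable section

namespace Groth.Agent.FormalSupp.OpenFin

variable {R : CommRingCat.{u}} (U : (Spec R).Opens) (M : ModuleCat.{u} R) {ι : Type u} (f : ι → R)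

instance overSpec : (U : Scheme.{u}).Over (Spec (CommRingCat.of ↥R)) := ⟨U.ι⟩

/-- `M~` on `U`. -/
abbrev F : (U : Scheme.{u}).Modules := (tilde M).restrict U.ι

/-- The trace of the basic opens on `U`. -/
abbrev V : ι → (U : Scheme.{u}).Opens := fun i => U.ι ⁻¹ᵁ (PrimeSpectrum.basicOpen (f i) : (Spec R).Opens)

variable (hle : ∀ i, (PrimeSpectrum.basicOpen (f i) : (Spec R).Opens) ≤ U)
include hle

theorem mem_inter_V {q : ℕ} (x : Fin (q + 1) → ι) (z : (U : Scheme.{u})) :
    z ∈ CohAff.inter (V U f) x ↔ U.ι z ∈ CohAff.inter (X := (Spec R).toPresheafedSpace.carrier)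
      (LocCoh.Punctured.dcov f) x := by
  simp only [CohAff.mem_inter]
  rfl

theorem image_inter {q : ℕ} (x : Fin (q + 1) → ι) :
    U.ι ''ᵁ CohAff.inter (V U f) x = CohAff.inter (X := (Spec R).toPresheafedSpace.carrier)
      (LocCoh.Punctured.dcov f) x := by
  apply TopologicalSpace.Opens.ext
  ext y
  constructor
  · rintro ⟨z, hz, rfl⟩
    exact (mem_inter_V U f hle x z).mp hz
  · intro hy
    have hyU : y ∈ U := hle (x 0) ((CohAff.mem_inter).mp hy 0)
    exact ⟨⟨y, hyU⟩, (mem_inter_V U f hle x ⟨y, hyU⟩).mpr hy, rfl⟩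

theorem isAffineOpen_inter {q : ℕ} (x : Fin (q + 1) → ι) :
    IsAffineOpen (CohAff.inter (V U f) x) := by
  have h1 : IsAffineOpen (U.ι ''ᵁ CohAff.inter (V U f) x) := by
    rw [image_inter U f hle x, LocCoh.Punctured.inter_dcov]
    exact IsAffineOpen.Spec_basicOpen _
  exact (U.ι).isAffineOpen_iff_of_isOpenImmersion.mp h1

/-- Sections of `M~` as sections of its restriction. -/
def toV {q : ℕ} (x : Fin (q + 1) → ι) :
    (Coh.toAb (tilde M)).obj.obj (op (CohAff.inter (X := (Spec R).toPresheafedSpace.carrier)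
        (LocCoh.Punctured.dcov f) x)) ≃+
      (Coh.toAb (F U M)).obj.obj (op (CohAff.inter (V U f) x)) :=
  CategoryTheory.Iso.addCommGroupIsoToAddEquiv
    ((Coh.toAb (tilde M)).obj.mapIso (eqToIso (congrArg op (image_inter U f hle x)).symm))

/-- Cochains as cochains of sections on `U`. -/
def Ψ (q : ℕ) : C f q M ≃+ CohAff.Cochain (Coh.toAb (F U M)).obj (V U f) q :=
  (LocCoh.Punctured.ΦT M f q).trans (AddEquiv.piCongrRight fun x => toV U M f hle x)

theorem toV_res {q : ℕ} (x : Fin (q + 2) → ι) (j : Fin (q + 2))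
    (s : (Coh.toAb (tilde M)).obj.obj (op (CohAff.inter (X := (Spec R).toPresheafedSpace.carrier)
        (LocCoh.Punctured.dcov f) (x ∘ j.succAbove)))) :
    toV U M f hle x (CohAff.res (Coh.toAb (tilde M)).obj (CohAff.inter_comp_le _ x j.succAbove) s) =
      CohAff.res (Coh.toAb (F U M)).obj (CohAff.inter_comp_le _ x j.succAbove)
        (toV U M f hle (x ∘ j.succAbove) s) := by
  show ((Coh.toAb (tilde M)).obj.map _ ≫ (Coh.toAb (tilde M)).obj.map _).hom s =
    ((Coh.toAb (tilde M)).obj.map _ ≫ (Coh.toAb (tilde M)).obj.map _).hom s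
  rw [← Functor.map_comp, ← Functor.map_comp]
  rfl

theorem Ψ_cd (q : ℕ) (s : C f q M) :
    Ψ U M f hle (q + 1) (cdM f _ q s) = CohAff.cd (Coh.toAb (F U M)).obj (V U f) q (Ψ U M f hle q s) := by
  funext x
  show toV U M f hle x (LocCoh.Punctured.ΦT M f (q + 1) (cdM f _ q s) x) = _
  rw [LocCoh.Punctured.ΦT_cd, CohAff.cd_apply, map_sum, CohAff.cd_apply]
  refine Finset.sum_congr rfl fun j _ => ?_
  rw [map_zsmul]
  exact congrArg _ (toV_res U M f hle x j _)

theorem Ψ_smul (q : ℕ) (a : R) (s : C f q M) :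
    Ψ U M f hle q (a • s) =
      CohAff.cmap (CohLin.abMap (Formal.smulMod ↥R (F U M) a)).hom (V U f) q (Ψ U M f hle q s) := by
  funext x
  let W := CohAff.inter (X := (Spec R).toPresheafedSpace.carrier) (LocCoh.Punctured.dcov f) x
  let e := LocCoh.Punctured.cmpT M f x
  show toV U M f hle x (e (a • s x)) = (Formal.smulMod ↥R (F U M) a).app _ (toV U M f hle x (e (s x)))
  rw [map_smul]
  let y : Γ(tilde M, W) := e (s x)
  let i : U.ι ''ᵁ CohAff.inter (V U f) x ⟶ W := homOfLE (image_inter U f hle x).le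
  show (tilde M).presheaf.map i.op
      ((Spec R).presheaf.map W.leTop.op ((Scheme.ΓSpecIso R).inv a) • y) = _
  refine (Scheme.Modules.map_smul (tilde M) i _ _).trans ?_
  refine congrArg (· • ((tilde M).presheaf.map i.op y)) ?_
  change _ = (U.ι.appIso _).inv
    ((U : Scheme.{u}).presheaf.map (homOfLE le_top).op (U.ι.appTop ((Scheme.ΓSpecIso R).inv a)))
  rw [Scheme.Opens.ι_appIso, Scheme.Opens.ι_appTop]
  simp only [Iso.refl_inv, Scheme.Opens.toScheme_presheaf_map]
  erw [← ConcreteCategory.comp_apply, ← ConcreteCategory.comp_apply]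

variable (hcov : U ≤ ⨆ i, (PrimeSpectrum.basicOpen (f i) : (Spec R).Opens))
include hcov

omit hle in
theorem iSup_V : ⨆ i, V U f i = ⊤ := by
  refine top_le_iff.mp fun z _ => ?_
  obtain ⟨i, hi⟩ := Opens.mem_iSup.mp (hcov z.2)
  exact Opens.mem_iSup.mpr ⟨i, hi⟩

/-- Cocycles map linearly to cohomology. -/
def toHLin (q : ℕ) :
    LinearMap.ker (cdM f (M : Type u) q) →ₗ[R] Coh.HH (U : Scheme.{u}) (F U M) q where
  toFun s := CohAff.toH (iSup_V U f hcov) q (Coh.toAb (F U M)) (Ψ U M f hle q s.1)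
    (by rw [← Ψ_cd, LinearMap.mem_ker.mp s.2, map_zero])
  map_add' s t := by
    refine Eq.trans ?_ (CohAff.toH_add _ _ _ _ _ _)
    exact CohAff.toH_congr _ (map_add _ _ _) _ _
  map_smul' a s := by
    refine Eq.trans ?_ (CohAff.toH_map (iSup_V U f hcov) (CohLin.abMap (Formal.smulMod ↥R (F U M) a))
      (Ψ U M f hle q s.1) (by rw [← Ψ_cd, LinearMap.mem_ker.mp s.2, map_zero]))
    exact CohAff.toH_congr _ (Ψ_smul U M f hle q a s.1) _ _

theorem toHLin_surjective (q : ℕ) : Function.Surjective (toHLin U M f hle hcov q) := by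
  intro h
  obtain ⟨c, hc, rfl⟩ := CohAff.exists_toH_eq (C := CohAff.affCov (U : Scheme.{u})) (iSup_V U f hcov)
    (fun x => isAffineOpen_inter U f hle x) (CohAff.good_affCov (F U M)) h
  refine ⟨⟨(Ψ U M f hle q).symm c, LinearMap.mem_ker.mpr ((Ψ U M f hle (q + 1)).injective ?_)⟩,
    CohAff.toH_congr _ (AddEquiv.apply_symm_apply _ _) _ _⟩
  rw [Ψ_cd, AddEquiv.apply_symm_apply, hc, map_zero]

theorem le_ker_toHLin (q : ℕ) :
    (LinearMap.range (cdM f (M : Type u) q)).comap (LinearMap.ker (cdM f (M : Type u) (q + 1))).subtype ≤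
      LinearMap.ker (toHLin U M f hle hcov (q + 1)) := by
  rintro s ⟨t, ht⟩
  rw [LinearMap.mem_ker]
  refine Eq.trans ?_ (CohAff.toH_cd (iSup_V U f hcov) (Coh.toAb (F U M)) (Ψ U M f hle q t))
  exact CohAff.toH_congr _ (by rw [← Ψ_cd, ht]; rfl) _ _

variable [IsNoetherianRing R] [Fintype ι] [DecidableEq ι] [Module.Finite R M]

/-- `H^i(U, M~)` is finite when the local cohomology up to degree `i + 1` is. -/
theorem finite_HH (i : ℕ) (hfin : Module.Finite R (_root_.LocCoh.H (Ideal.span (Set.range f)) (i + 1) (M : Type u))) :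
    Module.Finite R (Coh.HH (U : Scheme.{u}) (F U M) i) := by
  let fs : List R := (Finset.univ : Finset ι).toList.map f
  have hf : ∀ a, a ∈ fs ↔ ∃ k, f k = a := fun a => by simp [fs]
  have hspan : Ideal.span {a : R | a ∈ fs} = Ideal.span (Set.range f) := by
    congr 1; ext a; exact hf a
  obtain ⟨eL⟩ := LocCoh.nonempty_H_equiv_limH fs (i + 1) (M : Type u)
  rw [hspan] at eL
  rcases i with _ | q
  · rw [show ((0 + 1 : ℕ) : ℤ) - fs.length = 1 - (fs.length : ℤ) by push_cast; ring] at eL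
    obtain ⟨e'⟩ := KoszulCech.nonempty_Caug_equiv f fs (M : Type u) hf
    haveI : Module.Finite R (KoszulCech.Caug f (M : Type u)) :=
      Module.Finite.equiv (eL.trans e'.symm)
    let P := (LinearMap.range (KoszulCech.aug f (M : Type u))).comap (LinearMap.ker (cdM f (M : Type u) 0)).subtype
    haveI : Module.Finite R P := by
      let g : (M : Type u) →ₗ[R] P := LinearMap.codRestrict P
        (LinearMap.codRestrict _ (KoszulCech.aug f (M : Type u)) fun m => LinearMap.mem_ker.mpr (KoszulCech.cdM_aug f _ m))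
        fun m => ⟨m, rfl⟩
      refine Module.Finite.of_surjective g fun z => ?_
      obtain ⟨m, hm⟩ := z.2
      exact ⟨m, Subtype.ext (Subtype.ext hm)⟩
    haveI : Module.Finite R (LinearMap.ker (cdM f (M : Type u) 0) ⧸ P) := ‹_›
    haveI : Module.Finite R (LinearMap.ker (cdM f (M : Type u) 0)) := Module.Finite.of_submodule_quotient P
    exact Module.Finite.of_surjective _ (toHLin_surjective U M f hle hcov 0)
  · rw [show ((q + 1 + 1 : ℕ) : ℤ) - fs.length = (q : ℤ) + 2 - fs.length by push_cast; ring] at eL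
    obtain ⟨e'⟩ := KoszulCech.nonempty_H1_equiv f fs hf q (M : Type u)
    haveI : Module.Finite R (KoszulCech.H1 f (M : Type u) q) :=
      Module.Finite.equiv (eL.trans e'.symm)
    refine Module.Finite.of_surjective (Submodule.liftQ _ _ (le_ker_toHLin U M f hle hcov q)) fun h => ?_
    obtain ⟨s, hs⟩ := toHLin_surjective U M f hle hcov (q + 1) h
    exact ⟨Submodule.Quotient.mk s, hs⟩

end Groth.Agent.FormalSupp.OpenFin
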