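import Groth.Agent.FormalFun.GrCoh
import Groth.Agent.ProperFin.SuppFin
import Groth.Agent.S0025

/-!
# The hypotheses of formal functions for supports proper over a Noetherian ring
-/

universe u

open CategoryTheory AlgebraicGeometry

namespace Groth.Agent.FormalSupp

variable {A : Type u} [CommRing A] [IsNoetherianRing A] {X : Scheme.{u}}
  [X.Over (Spec (CommRingCat.of A))]

theorem finIn_of_isProperOver [LocallyOfFiniteType (X ↘ Spec (CommRingCat.of A))]
    [QuasiCompact (X ↘ Spec (CommRingCat.of A))] {T : Set X}
    (hT : ClSub.IsProperOver (X ↘ Spec (CommRingCat.of A)) T) : FormalFun.FiniteOn A X T :=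
  fun M hM hMT n => by
    refine ProperFin.finHH_of_supp (fun Z f hf => ?_) _ hT M hM hMT n
    haveI := hf
    haveI : IsNoetherian (Spec (CommRingCat.of A)) := inferInstance
    exact Groth.Agent.S0025.result f

end Groth.Agent.FormalSupp
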