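import Groth.Agent.FormalSupp.OpenFin
import Groth.Agent.EGA4Closed.Basic
import Groth.Agent.S2269
import Groth.Agent.S2930
import Groth.Prelude.Def_SGA2

/-!
# Finiteness of cohomology on the complement of a closed subset, from depths
-/

set_option autoImplicit false

universe u

open CategoryTheory CategoryTheory.Limits Opposite AlgebraicGeometry TopologicalSpace
open Groth.Agent Groth.Agent.PullStalk.Sky

noncomputable section

namespace Groth.Agent.FormalSupp.Punct

/-- Depth is invariant under semilinear isomorphisms. -/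
theorem depth_congr_semilinear {T S : Type u} [CommRing T] [IsLocalRing T] [CommRing S] [IsLocalRing S]
    (σ : T ≃+* S) {P N : Type u} [AddCommGroup P] [Module T P] [AddCommGroup N] [Module S N]
    (τ : P ≃+ N) (hτ : ∀ r x, τ (r • x) = σ r • τ x) :
    LocCoh.depth T P = LocCoh.depth S N := by
  haveI : RingHomInvPair (σ : T →+* S) (σ.symm : S →+* T) := RingHomInvPair.of_ringEquiv σ
  haveI : RingHomInvPair (σ.symm : S →+* T) (σ : T →+* S) := RingHomInvPair.of_ringEquiv σ.symm
  let e : P ≃ₛₗ[(σ : T →+* S)] N := { τ with map_smul' := hτ }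
  have hm : (IsLocalRing.maximalIdeal T).map (σ : T →+* S) = IsLocalRing.maximalIdeal S :=
    IsLocalRing.map_maximalIdeal_of_surjective _ σ.surjective
  have hmem : ∀ r : T, r ∈ IsLocalRing.maximalIdeal T ↔ σ r ∈ IsLocalRing.maximalIdeal S := fun r => by
    rw [IsLocalRing.mem_maximalIdeal, IsLocalRing.mem_maximalIdeal, mem_nonunits_iff, mem_nonunits_iff]
    exact not_congr ⟨fun h => h.map σ, fun h => by simpa using h.map σ.symm⟩
  have htop : IsLocalRing.maximalIdeal T • (⊤ : Submodule T P) = ⊤ ↔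
      IsLocalRing.maximalIdeal S • (⊤ : Submodule S N) = ⊤ := by
    refine ⟨fun h => eq_top_iff.mpr fun y _ => ?_, fun h => eq_top_iff.mpr fun y _ => ?_⟩
    · have hy : τ.symm y ∈ IsLocalRing.maximalIdeal T • (⊤ : Submodule T P) := by rw [h]; trivial
      rw [← τ.apply_symm_apply y]
      refine Submodule.smul_induction_on hy (fun a ha z _ => ?_) fun a b ha hb => ?_
      · rw [hτ]
        exact Submodule.smul_mem_smul ((hmem a).mp ha) trivial
      · rw [map_add]
        exact Submodule.add_mem _ ha hb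
    · have hy : τ y ∈ IsLocalRing.maximalIdeal S • (⊤ : Submodule S N) := by rw [h]; trivial
      rw [← τ.symm_apply_apply y]
      refine Submodule.smul_induction_on hy (fun a ha z _ => ?_) fun a b ha hb => ?_
      · have e1 : τ.symm (a • z) = σ.symm a • τ.symm z := τ.injective (by
          rw [hτ, τ.apply_symm_apply, τ.apply_symm_apply, σ.apply_symm_apply])
        rw [e1]
        exact Submodule.smul_mem_smul ((hmem _).mpr ((σ.apply_symm_apply a).symm ▸ ha)) trivial
      · rw [map_add]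
        exact Submodule.add_mem _ ha hb
  unfold LocCoh.depth LocCoh.idealDepth
  by_cases hP : IsLocalRing.maximalIdeal T • (⊤ : Submodule T P) = ⊤
  · rw [if_pos hP, if_pos (htop.mp hP)]
  rw [if_neg hP, if_neg fun h => hP (htop.mpr h)]
  refine le_antisymm (iSup₂_le fun rs hrs => ?_) (iSup₂_le fun rs hrs => ?_)
  · refine le_iSup₂_of_le (rs.map σ) ⟨(e.isWeaklyRegular_congr' rs).mp hrs.1, fun r hr => ?_⟩ (by simp)
    obtain ⟨a, ha, rfl⟩ := List.mem_map.mp hr
    exact (hmem a).mp (hrs.2 a ha)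
  · have hback : (rs.map σ.symm).map (σ : T →+* S) = rs := by
      rw [List.map_map]
      conv_rhs => rw [← rs.map_id]
      exact List.map_congr_left fun x _ => σ.apply_symm_apply x
    refine le_iSup₂_of_le (rs.map σ.symm) ⟨(e.isWeaklyRegular_congr' _).mpr (hback.symm ▸ hrs.1), fun r hr => ?_⟩
      (by simp)
    obtain ⟨a, ha, rfl⟩ := List.mem_map.mp hr
    exact (hmem _).mpr ((σ.apply_symm_apply a).symm ▸ hrs.2 a ha)

/-- Depths of stalks of a restriction to an open subscheme. -/
theorem depth_restrict {X : Scheme.{u}} (U : X.Opens) (M : X.Modules) (x : (U : Scheme.{u})) :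
    LocCoh.depth ((U : Scheme.{u}).presheaf.stalk x) ((M.restrict U.ι).presheaf.stalk x) =
      LocCoh.depth (X.presheaf.stalk x.1) (M.presheaf.stalk x.1) := by
  let τ := ((Scheme.Modules.restrictStalkNatIso U.ι x).app M).addCommGroupIsoToAddEquiv
  refine depth_congr_semilinear (U.stalkIso x).commRingCatIsoToRingEquiv τ fun r v => ?_
  obtain ⟨Va, ha, a, rfl⟩ := TopCat.Presheaf.exists_germ_eq (U : Scheme.{u}).presheaf r
  obtain ⟨Vv, hv, m, rfl⟩ := exists_germM_eq (M.restrict U.ι) x v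
  let V := Va ⊓ Vv
  have hx : x ∈ V := ⟨ha, hv⟩
  rw [← TopCat.Presheaf.germ_res_apply (U : Scheme.{u}).presheaf (homOfLE (inf_le_left : V ≤ Va)) x hx,
    ← show germM (M.restrict U.ι) V x hx ((M.restrict U.ι).presheaf.map (homOfLE inf_le_right).op m) =
      germM (M.restrict U.ι) Vv x hv m from (M.restrict U.ι).presheaf.germ_res_apply _ x hx m]
  set a' := (U : Scheme.{u}).presheaf.map (homOfLE (inf_le_left : V ≤ Va)).op a
  set m' : Γ(M.restrict U.ι, V) := (M.restrict U.ι).presheaf.map (homOfLE inf_le_right).op m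
  rw [← germM_smul]
  have h1 : ∀ y : Γ(M.restrict U.ι, V), τ (germM (M.restrict U.ι) V x hx y) =
      germM M (U.ι ''ᵁ V) x.1 ⟨x, hx, rfl⟩ y := fun y =>
    ConcreteCategory.congr_hom (Scheme.Modules.germ_restrictStalkNatIso_hom_app U.ι x M hx) y
  have h2 : (U.stalkIso x).commRingCatIsoToRingEquiv ((U : Scheme.{u}).presheaf.germ V x hx a') =
      X.presheaf.germ (U.ι ''ᵁ V) x.1 ⟨x, hx, rfl⟩ a' :=
    ConcreteCategory.congr_hom (U.germ_stalkIso_hom x hx) a'
  show τ _ = _ • (show M.presheaf.stalk x.1 from τ _)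
  erw [h1, h1, h2, ← germM_smul]
  refine congrArg _ ?_
  exact (QCoh.restrict_smul U.ι M a' m').trans (by rw [Scheme.Opens.ι_appIso]; rfl)

/-- Depth of stalks along an isomorphism of modules. -/
theorem depth_stalk_iso {X : Scheme.{u}} {M N : X.Modules} (e : M ≅ N) (x : X) :
    LocCoh.depth (X.presheaf.stalk x) (M.presheaf.stalk x) =
      LocCoh.depth (X.presheaf.stalk x) (N.presheaf.stalk x) := by
  let e' := ((Scheme.Modules.toPresheaf X ⋙ TopCat.Presheaf.stalkFunctor AddCommGrpCat.{u} x).mapIso e).addCommGroupIsoToAddEquiv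
  refine depth_congr_semilinear (RingEquiv.refl _) e' fun r v => ?_
  exact (RefHull.stalkMapₗ e.hom x).map_smul r v

/-- A point of an open subscheme of an affine scheme. -/
def pt {A : Type u} [CommRing A] (U : (Spec (CommRingCat.of A)).Opens) (p : PrimeSpectrum A)
    (hp : p ∈ (U.carrier : Set (PrimeSpectrum A))) : (U : Scheme.{u}) := ⟨p, hp⟩

/-- Finiteness of `H^i(U, F)`, `i ≤ n`, for `U` the complement of `V(I)`, from depths in codimension one. -/
theorem finite_HH {R : Type u} [CommRing R] [IsRegularRing R] {A : Type u} [CommRing A] [IsNoetherianRing A]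
    (π : R →+* A) (hπ : Function.Surjective π) (I : Ideal A) (U : (Spec (CommRingCat.of A)).Opens)
    (hU : (U.carrier : Set (PrimeSpectrum A)) = (PrimeSpectrum.zeroLocus (I : Set A))ᶜ)
    (G : (U : Scheme.{u}).Modules) (hG : Coh.IsCoh G) (n : ℕ)
    (hdepth : ∀ (p q : PrimeSpectrum A) (hp : p ∈ (U.carrier : Set (PrimeSpectrum A))), I ≤ q.asIdeal → p ⋖ q →
      ((n + 1 : ℕ) : ℕ∞) ≤ LocCoh.depth ((U : Scheme.{u}).presheaf.stalk (pt U p hp)) (G.presheaf.stalk (pt U p hp)))
    (i : ℕ) (hi : i ≤ n) : Module.Finite A (Coh.HH (U : Scheme.{u}) G i) := by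
  obtain ⟨M, _, _, hM, ⟨e'⟩⟩ := (Groth.Agent.S2269.result A U G).mp hG
  have e := e'.symm
  haveI := hM
  have hd : ∀ p q : PrimeSpectrum A, ¬ I ≤ p.asIdeal → I ≤ q.asIdeal → p ⋖ q →
      ((n + 1 : ℕ) : ℕ∞) ≤ LocCoh.depth (Localization.AtPrime p.asIdeal) (LocalizedModule p.asIdeal.primeCompl M) := by
    intro p q hp hq hpq
    have hpU : p ∈ (U.carrier : Set (PrimeSpectrum A)) := hU ▸ hp
    refine (hdepth p q hpU hq hpq).trans (le_of_eq ?_)
    rw [← depth_stalk_iso e, depth_restrict U _ (pt U p hpU)]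
    exact EGA4Closed.depth_stalk_eq A M p
  have hH := (Groth.Agent.S2930.result R A π hπ I M (n + 1)).mpr hd (i + 1) (by omega)
  classical
  obtain ⟨s, hs⟩ := IsNoetherian.noetherian I
  let f : ULift.{u} {a // a ∈ s} → A := fun i => i.down.1
  have hrange : Set.range f = (s : Set A) := by
    ext a
    exact ⟨fun ⟨i, hi⟩ => hi ▸ i.down.2, fun ha => ⟨⟨⟨a, ha⟩⟩, rfl⟩⟩
  have hI : Ideal.span (Set.range f) = I := hrange.symm ▸ hs
  have hle : ∀ j, (PrimeSpectrum.basicOpen (f j) : (Spec (CommRingCat.of A)).Opens) ≤ U := fun j p hp => by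
    show p ∈ (U.carrier : Set (PrimeSpectrum A))
    rw [hU]
    exact fun h => hp (h (hI ▸ Ideal.subset_span ⟨j, rfl⟩))
  have hcov : U ≤ ⨆ j, (PrimeSpectrum.basicOpen (f j) : (Spec (CommRingCat.of A)).Opens) := fun p hp => by
    have hp' : p ∈ (PrimeSpectrum.zeroLocus (I : Set A))ᶜ := hU ▸ hp
    rw [← hI, PrimeSpectrum.zeroLocus_span] at hp'
    obtain ⟨_, ⟨j, rfl⟩, hj⟩ := Set.not_subset.mp hp'
    exact Opens.mem_iSup.mpr ⟨j, hj⟩
  haveI : Module.Finite A (Coh.HH (U : Scheme.{u}) (OpenFin.F U (ModuleCat.of A M)) i) :=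
    OpenFin.finite_HH (R := CommRingCat.of A) U (ModuleCat.of A M) f hle hcov i
      (by rw [hI]; exact hH)
  exact CohLin.finite_of_iso A e

end Groth.Agent.FormalSupp.Punct
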