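import Groth.Agent.FormalFun.Powers
import Groth.Agent.Adic.Basic

/-!
# Cohomology modulo powers of a nonzerodivisor
-/

set_option autoImplicit false

universe u

open CategoryTheory CategoryTheory.Limits AlgebraicGeometry Opposite TopologicalSpace
open Groth.Agent

noncomputable section

namespace Groth.Agent.FormalSupp.TorFree

variable {A : Type u} [CommRing A] {X : Scheme.{u}} [X.Over (Spec (CommRingCat.of A))]
variable (F : X.Modules) (t : A)

theorem mono_pow [Mono (Formal.smulMod A F t)] (n : ℕ) : Mono (Formal.smulMod A F (t ^ n)) := by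
  induction n with
  | zero => rw [pow_zero, FormalFun.smulMod_one]; infer_instance
  | succ n ih =>
    rw [pow_succ, CohIII.smulMod_mul]
    exact mono_comp _ _

theorem smul_pow_π (n : ℕ) :
    Formal.smulMod A F (t ^ n) ≫ Formal.modPowπ (Ideal.span {t}) n F = 0 :=
  FormalFun.smulMod_comp_π F (Ideal.pow_mem_pow (Ideal.mem_span_singleton_self t) n)

/-- `0 → F → F → F/t^n F → 0`. -/
abbrev seq (n : ℕ) : ShortComplex X.Modules :=
  ShortComplex.mk (Formal.smulMod A F (t ^ n)) (Formal.modPowπ (Ideal.span {t}) n F) (smul_pow_π F t n)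

theorem smulFamily_comp_eq_zero {n : ℕ} {Z : X.Modules} (g : F ⟶ Z)
    (hg : Formal.smulMod A F (t ^ n) ≫ g = 0) : Formal.smulFamily (Ideal.span {t} ^ n) F ≫ g = 0 := by
  apply Sigma.hom_ext
  intro a
  obtain ⟨c, hc⟩ := Ideal.mem_span_singleton.mp (show (a : A) ∈ Ideal.span {t ^ n} by
    rw [← Ideal.span_singleton_pow]; exact a.2)
  rw [comp_zero, ← Category.assoc, Formal.smulFamily, Sigma.ι_desc, hc,
    CohIII.smulMod_mul, Category.assoc, hg, comp_zero]

theorem shortExact_seq [Mono (Formal.smulMod A F t)] (n : ℕ) : (seq F t n).ShortExact where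
  exact := ShortComplex.exact_of_g_is_cokernel _ (CokernelCofork.IsColimit.ofπ _ _
    (fun g hg => cokernel.desc _ g (smulFamily_comp_eq_zero F t g hg))
    (fun g hg => cokernel.π_desc _ _ _)
    (fun g hg b hb => by
      haveI : Epi (Formal.modPowπ (Ideal.span {t}) n F) := inferInstanceAs (Epi (cokernel.π _))
      apply (cancel_epi (Formal.modPowπ (Ideal.span {t}) n F)).mp
      exact hb.trans (cokernel.π_desc _ _ _).symm))
  mono_f := mono_pow F t n
  epi_g := inferInstanceAs (Epi (cokernel.π _))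

variable [Mono (Formal.smulMod A F t)] {i : ℕ}

theorem mem_of_toHH_eq_zero (k : ℕ) (x : Coh.HH X F i)
    (hx : Formal.toHHmodPow (Ideal.span {t}) F i k x = 0) :
    x ∈ Ideal.span {t} ^ (k + 1) • (⊤ : Submodule A (Coh.HH X F i)) := by
  obtain ⟨z, hz⟩ := CohLin.exists_hMap_f_eq (shortExact_seq F t (k + 1)) x hx
  rw [← hz]
  exact Submodule.smul_mem_smul (Ideal.pow_mem_pow (Ideal.mem_span_singleton_self t) _) trivial

omit [Mono (Formal.smulMod A F t)] in
theorem toHH_eq_zero_of_mem (k : ℕ) {x : Coh.HH X F i}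
    (hx : x ∈ Ideal.span {t} ^ (k + 1) • (⊤ : Submodule A (Coh.HH X F i))) :
    Formal.toHHmodPow (Ideal.span {t}) F i k x = 0 := by
  refine Submodule.smul_induction_on hx (fun a ha z _ => ?_) fun a b ha hb => by rw [map_add, ha, hb, add_zero]
  show CohLin.hMap (Formal.modPowπ (Ideal.span {t}) (k + 1) F) i (a • z) = 0
  rw [← FormalFun.hMap_smulMod, ← CohLin.hMap_comp]
  exact (congrArg (fun φ => CohLin.hMap φ i z) (FormalFun.smulMod_comp_π F ha)).trans
    (map_zero (CohLin.hMapHom _ _ i z))

theorem injective [IsAdicComplete (Ideal.span {t}) A] [IsNoetherianRing A]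
    [Module.Finite A (Coh.HH X F i)] : Function.Injective (Formal.toHHlim (Ideal.span {t}) F i) := by
  haveI : IsAdicComplete (Ideal.span {t}) (Coh.HH X F i) := Adic.isAdicComplete_of_finite (Ideal.span {t})
  rw [injective_iff_map_eq_zero]
  intro x hx
  refine IsHausdorff.haus' (I := Ideal.span {t}) x fun n => ?_
  rw [SModEq.zero]
  refine Submodule.smul_mono (Ideal.pow_le_pow_right (Nat.le_succ n)) le_rfl
    (mem_of_toHH_eq_zero F t n x ?_)
  exact congrFun (congrArg Subtype.val hx) n

theorem bijective [IsAdicComplete (Ideal.span {t}) A] [IsNoetherianRing A]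
    [Module.Finite A (Coh.HH X F i)] [Module.Finite A (Coh.HH X F (i + 1))] :
    Function.Bijective (Formal.toHHlim (Ideal.span {t}) F i) := by
  refine ⟨injective F t, fun ⟨x, hx⟩ => ?_⟩
  haveI : IsAdicComplete (Ideal.span {t}) (Coh.HH X F i) := Adic.isAdicComplete_of_finite (Ideal.span {t})
  let δ : ∀ k, Coh.HH X (Formal.modPow (Ideal.span {t}) (k + 1) F) i → Coh.HH X F (i + 1) :=
    fun k => CohLin.hδ (shortExact_seq F t (k + 1)) i
  have hnat : ∀ k, δ k (x k) = t • δ (k + 1) (x (k + 1)) := fun k => by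
    have h := FormalFun.δ_natural (shortExact_seq F t (k + 1 + 1)) (shortExact_seq F t (k + 1))
      (S := seq F t (k + 1 + 1)) (S' := seq F t (k + 1))
      { τ₁ := Formal.smulMod A F t, τ₂ := 𝟙 F, τ₃ := Formal.modPowTrans (Ideal.span {t}) (k + 1) F
        comm₁₂ := by
          show Formal.smulMod A F t ≫ Formal.smulMod A F (t ^ (k + 1)) = Formal.smulMod A F (t ^ (k + 1 + 1)) ≫ 𝟙 F
          rw [Category.comp_id, ← CohIII.smulMod_mul]
          congr 1
          ring
        comm₂₃ := (Category.id_comp _).trans (Formal.modPowπ_trans _ _ F).symm } i (x (k + 1))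
    rw [← hx k]
    exact h.trans (FormalFun.hMap_smulMod F t (i + 1) _)
  have hkill : ∀ k, t ^ (k + 1) • δ k (x k) = 0 := fun k => by
    rw [← FormalFun.hMap_smulMod]
    exact CohLin.hMap_f_hδ (shortExact_seq F t (k + 1)) (x k)
  let K : ℕ →o Submodule A (Coh.HH X F (i + 1)) :=
    ⟨fun j => LinearMap.ker (LinearMap.lsmul A (Coh.HH X F (i + 1)) (t ^ j)), fun a b hab z hz => by
      obtain ⟨d, rfl⟩ := Nat.exists_eq_add_of_le hab
      rw [LinearMap.mem_ker, LinearMap.lsmul_apply] at hz ⊢
      rw [pow_add, mul_comm, mul_smul, hz, smul_zero]⟩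
  obtain ⟨c, hc⟩ := monotone_stabilizes_iff_noetherian.mpr inferInstance K
  have hz : ∀ k, δ k (x k) = 0 := by
    intro k
    have h1 : ∀ j, δ k (x k) = t ^ j • δ (k + j) (x (k + j)) := by
      intro j
      induction j with
      | zero => simp
      | succ j ih => rw [ih, hnat (k + j), ← mul_smul, ← pow_succ]; rfl
    have h2 : δ (k + c) (x (k + c)) ∈ K c := by
      rw [hc (k + c + 1) (by omega)]
      exact LinearMap.mem_ker.mpr (hkill (k + c))
    rw [h1 c]
    exact LinearMap.mem_ker.mp h2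
  choose y hy using fun k => CohLin.exists_hMap_g_eq (shortExact_seq F t (k + 1)) (x k) (hz k)
  have hy' : ∀ k, Formal.toHHmodPow (Ideal.span {t}) F i k (y k) = x k := hy
  have htrans : ∀ k z, Formal.HHmodPowTrans (Ideal.span {t}) F i k
      (Formal.toHHmodPow (Ideal.span {t}) F i (k + 1) z) = Formal.toHHmodPow (Ideal.span {t}) F i k z :=
    fun k z => (Formal.toHHlim (Ideal.span {t}) F i z).2 k
  have hd : ∀ k, y (k + 1) - y k ∈ Ideal.span {t} ^ (k + 1) • (⊤ : Submodule A (Coh.HH X F i)) := fun k =>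
    mem_of_toHH_eq_zero F t k _ (by rw [map_sub, ← htrans k (y (k + 1)), hy', hy', hx k, sub_self])
  obtain ⟨z, hz'⟩ := IsPrecomplete.prec' (I := Ideal.span {t}) (M := Coh.HH X F i) y (fun {a b} hab => by
    induction b, hab using Nat.le_induction with
    | base => exact SModEq.refl _
    | succ b hb ih =>
      refine ih.trans (SModEq.symm ?_)
      rw [SModEq.sub_mem]
      exact Submodule.smul_mono (Ideal.pow_le_pow_right (by omega)) le_rfl (hd b))
  refine ⟨z, Subtype.ext (funext fun k => ?_)⟩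
  show Formal.toHHmodPow (Ideal.span {t}) F i k z = x k
  have h1 : Formal.toHHmodPow (Ideal.span {t}) F i k (y (k + 1) - z) = 0 :=
    toHH_eq_zero_of_mem F t k (SModEq.sub_mem.mp (hz' (k + 1)))
  rw [map_sub, sub_eq_zero] at h1
  rw [← h1, ← htrans, hy', hx k]

end Groth.Agent.FormalSupp.TorFree
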